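import Cfsg.Agent.ItoDesign.Elation

/-!
# O'Nan: abelian normal subgroups of point stabilisers, the associated linear space

`T x` is an elementary abelian normal subgroup of the stabiliser of `x`, not semiregular on the other
points.  The lines are the fixed point sets of the groups `T x ⊓ stabilizer y`.
-/

set_option autoImplicit false
set_option linter.style.haveILetI false
set_option linter.unusedSectionVars false
set_option linter.unusedVariables false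

open MulAction
open Cfsg.Lib.ItoDesign (card_orbit_mul dvd_card_of_orbits)

namespace Cfsg.Lib.ONanAbelian

universe u v

/-- an equivariant family of elementary abelian subgroups of point stabilisers -/
structure Setting (G : Type u) (X : Type v) [Group G] [MulAction G X] where
  p : ℕ
  hp : p.Prime
  T : X → Subgroup G
  T_le : ∀ x, T x ≤ stabilizer G x
  T_comm : ∀ x, ∀ a ∈ T x, ∀ b ∈ T x, a * b = b * a
  T_pow : ∀ x, ∀ a ∈ T x, a ^ p = 1
  T_conj : ∀ (g : G) (x : X) (a : G), a ∈ T x → g * a * g⁻¹ ∈ T (g • x)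
  trans2 : ∀ a b c d : X, a ≠ b → c ≠ d → ∃ g : G, g • a = c ∧ g • b = d
  faith : ∀ g : G, (∀ x : X, g • x = x) → g = 1
  exists_pair : ∃ x y : X, x ≠ y ∧ T x ⊓ stabilizer G y ≠ ⊥

variable {G : Type u} {X : Type v} [Group G] [MulAction G X] [Fintype X] [Fintype G]

namespace Setting

variable (Δ : Setting G X)

/-- the subgroup fixing a second point -/
abbrev A (x y : X) : Subgroup G := Δ.T x ⊓ stabilizer G y

/-- the subgroup fixing two further points -/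
noncomputable def kap (c x y : X) : ℕ := Nat.card ↥(Δ.T c ⊓ stabilizer G x ⊓ stabilizer G y)

lemma smul_self {x : X} {a : G} (ha : a ∈ Δ.T x) : a • x = x := Δ.T_le x ha

lemma conj_mem {g : G} {x : X} {a : G} (ha : a ∈ Δ.T x) (hg : g • x = x) :
    g * a * g⁻¹ ∈ Δ.T x := by
  have := Δ.T_conj g x a ha
  rwa [hg] at this

lemma isPGroup_T (x : X) : IsPGroup Δ.p (Δ.T x) := fun a =>
  ⟨1, by rw [pow_one]; exact Subtype.ext (Δ.T_pow x a.1 a.2)⟩

lemma card_A_smul (g : G) (x y : X) :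
    Nat.card ↥(Δ.A (g • x) (g • y)) = Nat.card ↥(Δ.A x y) := by
  have key : ∀ (g : G) (x y : X) (h : G), h ∈ Δ.A x y → g * h * g⁻¹ ∈ Δ.A (g • x) (g • y) :=
    fun g x y h hh => ⟨Δ.T_conj g x h hh.1, mem_stabilizer_iff.2 (by
      rw [mul_smul, mul_smul, inv_smul_smul, mem_stabilizer_iff.1 hh.2])⟩
  refine Nat.card_congr
    { toFun := fun h => ⟨g⁻¹ * h.1 * g, by
        have := key g⁻¹ (g • x) (g • y) h.1 h.2
        rwa [inv_smul_smul, inv_smul_smul, inv_inv] at this⟩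
      invFun := fun h => ⟨g * h.1 * g⁻¹, key g x y h.1 h.2⟩
      left_inv := fun h => Subtype.ext (show g * (g⁻¹ * h.1 * g) * g⁻¹ = h.1 by group)
      right_inv := fun h => Subtype.ext (show g⁻¹ * (g * h.1 * g⁻¹) * g = h.1 by group) }

lemma card_A_const {x y x' y' : X} (h : x ≠ y) (h' : x' ≠ y') :
    Nat.card ↥(Δ.A x y) = Nat.card ↥(Δ.A x' y') := by
  obtain ⟨g, rfl, rfl⟩ := Δ.trans2 x y x' y' h h'
  exact (Δ.card_A_smul g x y).symm

lemma card_T_const (x x' : X) : Nat.card ↥(Δ.T x) = Nat.card ↥(Δ.T x') := by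
  obtain ⟨g, rfl⟩ : ∃ g : G, g • x = x' := by
    by_cases h : x = x'
    · exact ⟨1, by rw [one_smul, h]⟩
    · obtain ⟨g, hg, -⟩ := Δ.trans2 x x' x' x h (Ne.symm h)
      exact ⟨g, hg⟩
  refine Nat.card_congr
    { toFun := fun h => ⟨g * h.1 * g⁻¹, Δ.T_conj g x h.1 h.2⟩
      invFun := fun h => ⟨g⁻¹ * h.1 * g, by
        have := Δ.T_conj g⁻¹ (g • x) h.1 h.2
        rwa [inv_smul_smul, inv_inv] at this⟩
      left_inv := fun h => Subtype.ext (show g⁻¹ * (g * h.1 * g⁻¹) * g = h.1 by group)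
      right_inv := fun h => Subtype.ext (show g * (g⁻¹ * h.1 * g) * g⁻¹ = h.1 by group) }

lemma one_lt_card_A {x y : X} (h : x ≠ y) : 1 < Nat.card ↥(Δ.A x y) := by
  obtain ⟨x₀, y₀, h₀, hne⟩ := Δ.exists_pair
  rw [Δ.card_A_const h h₀]
  haveI : Nontrivial ↥(Δ.A x₀ y₀) := (Subgroup.nontrivial_iff_ne_bot _).2 hne
  exact Finite.one_lt_card

lemma not_le_stab {x y : X} (h : x ≠ y) : ¬ Δ.T x ≤ stabilizer G y := by
  intro hle
  have hA := Δ.one_lt_card_A h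
  haveI := Finite.one_lt_card_iff_nontrivial.1 hA
  obtain ⟨⟨a, ha⟩, ha1⟩ := exists_ne (1 : ↥(Δ.A x y))
  refine ha1 (Subtype.ext (Δ.faith a fun z => ?_))
  by_cases hz : x = z
  · subst hz; exact Δ.smul_self ha.1
  obtain ⟨g, hgx, hgy⟩ := Δ.trans2 x y x z h hz
  have := hle (Δ.conj_mem (g := g⁻¹) ha.1 (by rw [inv_smul_eq_iff, hgx]))
  rw [mem_stabilizer_iff, inv_inv, mul_smul, mul_smul, hgy, inv_smul_eq_iff, hgy] at this
  exact this

/-- two of the groups meet trivially -/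
lemma eq_one_of_two {x y : X} (hxy : x ≠ y) {g : G} (hx : g ∈ Δ.T x) (hy : g ∈ Δ.T y) : g = 1 := by
  have hconst : ∀ a b c d : X, a ≠ b → c ≠ d →
      Nat.card ↥(Δ.T a ⊓ Δ.T b) = Nat.card ↥(Δ.T c ⊓ Δ.T d) := by
    intro a b c d hab hcd
    obtain ⟨g, rfl, rfl⟩ := Δ.trans2 a b c d hab hcd
    refine Nat.card_congr
      { toFun := fun h => ⟨g * h.1 * g⁻¹, Δ.T_conj g a h.1 h.2.1, Δ.T_conj g b h.1 h.2.2⟩
        invFun := fun h => ⟨g⁻¹ * h.1 * g, by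
          have h1 := Δ.T_conj g⁻¹ (g • a) h.1 h.2.1
          rwa [inv_smul_smul, inv_inv] at h1, by
          have h2 := Δ.T_conj g⁻¹ (g • b) h.1 h.2.2
          rwa [inv_smul_smul, inv_inv] at h2⟩
        left_inv := fun h => Subtype.ext (show g⁻¹ * (g * h.1 * g⁻¹) * g = h.1 by group)
        right_inv := fun h => Subtype.ext (show g * (g⁻¹ * h.1 * g) * g⁻¹ = h.1 by group) }
  refine Δ.faith g fun z => ?_
  by_cases hzx : z = x
  · subst hzx; exact Δ.smul_self hx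
  by_cases hzy : z = y
  · subst hzy; exact Δ.smul_self hy
  by_contra hne
  have key : ∀ a, g ∈ Δ.T a → z ≠ a → Δ.T a ⊓ Δ.T z = Δ.T z ⊓ Δ.T (g • z) := by
    intro a ha hza
    refine Subgroup.eq_of_le_of_card_ge (fun v hv => ⟨hv.2, ?_⟩)
      (le_of_eq (hconst _ _ _ _ (Ne.symm hne) (Ne.symm hza)))
    have h1 := Δ.T_conj g z v hv.2
    rwa [Δ.T_comm a g ha v hv.1, mul_inv_cancel_right] at h1
  have hWV : Δ.T x ⊓ Δ.T z = Δ.T x ⊓ Δ.T y := by
    refine Subgroup.eq_of_le_of_card_ge (fun v hv => ⟨hv.1, ?_⟩)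
      (le_of_eq (hconst _ _ _ _ hxy (Ne.symm hzx)))
    rw [key x hx hzx, ← key y hy hzy] at hv
    exact hv.1
  have hg : g ∈ Δ.T x ⊓ Δ.T z := by rw [hWV]; exact ⟨hx, hy⟩
  exact hne (Δ.smul_self hg.2)

lemma commute_pair {x y : X} (hxy : x ≠ y) {a b : G} (ha : a ∈ Δ.A x y) (hb : b ∈ Δ.A y x) :
    a * b = b * a := by
  have h1 : a * b * a⁻¹ * b⁻¹ ∈ Δ.T x := by
    have h := mul_mem ha.1 (Δ.conj_mem (inv_mem ha.1) (mem_stabilizer_iff.1 hb.2))
    rwa [show a * (b * a⁻¹ * b⁻¹) = a * b * a⁻¹ * b⁻¹ by group] at h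
  have h2 : a * b * a⁻¹ * b⁻¹ ∈ Δ.T y :=
    mul_mem (Δ.conj_mem hb.1 (mem_stabilizer_iff.1 ha.2)) (inv_mem hb.1)
  have h := Δ.eq_one_of_two hxy h1 h2
  rwa [mul_inv_eq_one, mul_inv_eq_iff_eq_mul] at h

lemma kap_le {B P Q : X} (hBP : B ≠ P) (hBQ : B ≠ Q) : Δ.kap P B Q ≤ Δ.kap B P Q := by
  classical
  haveI := Fact.mk Δ.hp
  set U : Subgroup G := Δ.T P ⊓ stabilizer G B ⊓ stabilizer G Q with hU
  set A' : Subgroup G := Δ.T B ⊓ stabilizer G Q with hA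
  set Yg : Subgroup G := Δ.T B ⊓ stabilizer G P ⊓ stabilizer G Q with hY
  have hOY := card_orbit_mul A' P
  have hAY : Nat.card ↥(A' ⊓ stabilizer G P) = Nat.card Yg := by rw [hA, hY, inf_right_comm]
  rw [hAY] at hOY
  show Nat.card U ≤ Nat.card Yg
  by_cases hO1 : Nat.card (orbit A' P) = 1
  · rw [hO1, one_mul] at hOY
    rw [hOY, hA, Δ.card_A_const hBQ (Ne.symm hBP)]
    exact Nat.le_of_dvd Nat.card_pos (Subgroup.card_dvd_of_le inf_le_left)
  have hdO : Δ.p ∣ Nat.card (orbit A' P) := by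
    obtain ⟨e, he⟩ := ((Δ.isPGroup_T B).to_le (inf_le_left : A' ≤ Δ.T B)).exists_card_eq
    have hd : Nat.card (orbit A' P) ∣ Δ.p ^ e := he ▸ (hOY ▸ dvd_mul_right _ _)
    obtain ⟨i, -, hi⟩ := (Nat.dvd_prime_pow Δ.hp).1 hd
    rw [hi]
    refine dvd_pow_self _ fun h0 => hO1 ?_
    rw [hi, h0, pow_zero]
  have hmem : ∀ u : U, (u.1 ∈ Δ.T P ∧ u.1 • B = B) ∧ u.1 • Q = Q := fun u =>
    ⟨⟨u.2.1.1, u.2.1.2⟩, u.2.2⟩
  have hconj : ∀ (u : U) (a : G), a ∈ A' → u.1 * a * u.1⁻¹ ∈ A' := fun u a ha =>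
    ⟨Δ.conj_mem ha.1 (hmem u).1.2, mem_stabilizer_iff.2 (by
      rw [mul_smul, mul_smul, inv_smul_eq_iff.2 (hmem u).2.symm, mem_stabilizer_iff.1 ha.2,
        (hmem u).2])⟩
  have hstab : ∀ (u : U) (q : X), q ∈ orbit A' P → u.1 • q ∈ orbit A' P := by
    rintro u q ⟨a, rfl⟩
    refine ⟨⟨u.1 * a.1 * u.1⁻¹, hconj u a.1 a.2⟩, ?_⟩
    show (u.1 * a.1 * u.1⁻¹) • P = u.1 • a.1 • P
    rw [mul_smul, mul_smul, inv_smul_eq_iff.2 (Δ.smul_self (hmem u).1.1).symm]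
  letI actO : MulAction U (orbit A' P) :=
    { smul := fun u q => ⟨u.1 • q.1, hstab u q.1 q.2⟩
      one_smul := fun q => Subtype.ext (one_smul G q.1)
      mul_smul := fun u w q => Subtype.ext (mul_smul u.1 w.1 q.1) }
  have hPfix : (⟨P, mem_orbit_self P⟩ : orbit A' P) ∈ fixedPoints U (orbit A' P) := fun u =>
    Subtype.ext (Δ.smul_self (hmem u).1.1)
  have hUp : IsPGroup Δ.p U :=
    (Δ.isPGroup_T P).to_le ((inf_le_left.trans inf_le_left : U ≤ Δ.T P))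
  obtain ⟨⟨P', ⟨⟨y, hyA⟩, hyP⟩⟩, hP'fix, hP'ne⟩ :=
    hUp.exists_fixed_point_of_prime_dvd_card_of_fixed_point _ hdO hPfix
  have hyP' : y • P = P' := hyP
  have hPP' : P ≠ P' := fun e => hP'ne (Subtype.ext e)
  have hu' : ∀ u : U, u.1 • P' = P' := fun u => congrArg Subtype.val (hP'fix u)
  have hcY : ∀ u : U, y⁻¹ * (u.1 * y * u.1⁻¹) ∈ Yg := by
    intro u
    have h1 : y⁻¹ * (u.1 * y * u.1⁻¹) ∈ A' := mul_mem (inv_mem hyA) (hconj u y hyA)
    refine ⟨⟨h1.1, mem_stabilizer_iff.2 ?_⟩, h1.2⟩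
    rw [mul_smul, mul_smul, mul_smul, inv_smul_eq_iff.2 (Δ.smul_self (hmem u).1.1).symm, hyP', hu',
      ← hyP', inv_smul_smul]
  have hcomm : ∀ (u : U) (z : G), z ∈ Yg → u.1 * z = z * u.1 := fun u z hz =>
    Δ.commute_pair (Ne.symm hBP) ⟨(hmem u).1.1, mem_stabilizer_iff.2 (hmem u).1.2⟩
      ⟨hz.1.1, hz.1.2⟩
  let f : U →* Yg :=
    { toFun := fun u => ⟨_, hcY u⟩
      map_one' := Subtype.ext (by simp)
      map_mul' := fun u w => Subtype.ext (by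
        show y⁻¹ * ((u.1 * w.1) * y * (u.1 * w.1)⁻¹) =
          y⁻¹ * (u.1 * y * u.1⁻¹) * (y⁻¹ * (w.1 * y * w.1⁻¹))
        conv_rhs => rw [← mul_inv_cancel_right (y⁻¹ * (w.1 * y * w.1⁻¹)) u.1,
          ← hcomm u _ (hcY w)]
        group) }
  have hf : Function.Injective f := by
    rw [← MonoidHom.ker_eq_bot_iff, Subgroup.eq_bot_iff_forall]
    intro u hu
    have h1 : y⁻¹ * (u.1 * y * u.1⁻¹) = 1 := congrArg Subtype.val hu
    rw [inv_mul_eq_one, eq_comm, mul_inv_eq_iff_eq_mul] at h1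
    have h2 : u.1 ∈ Δ.T P' := by
      have h3 := Δ.T_conj y P u.1 (hmem u).1.1
      rwa [hyP', ← h1, mul_inv_cancel_right] at h3
    exact Subtype.ext (Δ.eq_one_of_two hPP' (hmem u).1.1 h2)
  exact Nat.card_le_card_of_injective f hf

lemma kap_symm {B P Q : X} (hBP : B ≠ P) (hBQ : B ≠ Q) (hPQ : P ≠ Q) :
    Δ.kap P B Q = Δ.kap B P Q :=
  le_antisymm (Δ.kap_le hBP hBQ) (Δ.kap_le (Ne.symm hBP) hPQ)

/-! ### lines -/

open scoped Classical in
/-- the line through two points -/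
noncomputable def line (x y : X) : Finset X :=
  Finset.univ.filter fun z => ∀ a ∈ Δ.A x y, a • z = z

lemma mem_line {x y z : X} : z ∈ Δ.line x y ↔ ∀ a ∈ Δ.A x y, a • z = z := by simp [line]

lemma left_mem_line (x y : X) : x ∈ Δ.line x y := Δ.mem_line.2 fun a ha => Δ.smul_self ha.1

lemma right_mem_line (x y : X) : y ∈ Δ.line x y := Δ.mem_line.2 fun a ha => ha.2

lemma A_eq_of_mem {x y z : X} (hxy : x ≠ y) (hz : z ∈ Δ.line x y) (hzx : z ≠ x) :
    Δ.A x z = Δ.A x y :=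
  (Subgroup.eq_of_le_of_card_ge
    (show Δ.A x y ≤ Δ.A x z from fun a ha => ⟨ha.1, Δ.mem_line.1 hz a ha⟩)
    (le_of_eq (Δ.card_A_const (Ne.symm hzx) hxy))).symm

lemma line_eq_of_mem {x y z : X} (hxy : x ≠ y) (hz : z ∈ Δ.line x y) (hzx : z ≠ x) :
    Δ.line x z = Δ.line x y := by
  ext q
  rw [Δ.mem_line, Δ.mem_line, Δ.A_eq_of_mem hxy hz hzx]

lemma line_comm {x y : X} (hxy : x ≠ y) : Δ.line x y = Δ.line y x := by
  suffices key : ∀ x y : X, x ≠ y → Δ.line x y ⊆ Δ.line y x from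
    (key x y hxy).antisymm (key y x (Ne.symm hxy))
  intro x y hxy z hz
  by_cases hzx : z = x
  · subst hzx; exact Δ.right_mem_line _ _
  by_cases hzy : z = y
  · subst hzy; exact Δ.left_mem_line _ _
  rw [Δ.mem_line] at hz ⊢
  have h1 : Δ.kap x y z = Nat.card ↥(Δ.A x y) := by
    unfold kap
    rw [inf_eq_left.2 (show Δ.A x y ≤ stabilizer G z from fun a ha => hz a ha)]
  have h2 : Δ.A y x ⊓ stabilizer G z = Δ.A y x := by
    refine Subgroup.eq_of_le_of_card_ge inf_le_left (le_of_eq ?_)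
    rw [Δ.card_A_const (Ne.symm hxy) hxy, ← h1]
    exact Δ.kap_symm (Ne.symm hxy) (Ne.symm hzy) (Ne.symm hzx)
  intro a ha
  rw [← h2] at ha
  exact ha.2

lemma line_eq {x y u w : X} (hxy : x ≠ y) (hu : u ∈ Δ.line x y) (hw : w ∈ Δ.line x y)
    (huw : u ≠ w) : Δ.line u w = Δ.line x y := by
  by_cases hux : u = x
  · subst hux
    exact Δ.line_eq_of_mem hxy hw (Ne.symm huw)
  · have h1 := Δ.line_eq_of_mem hxy hu hux
    rw [← h1, Δ.line_comm (Ne.symm hux)]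
    refine Δ.line_eq_of_mem hux ?_ (Ne.symm huw)
    rw [Δ.line_comm hux, h1]
    exact hw

lemma smul_mem_line {g : G} {x y z : X} : g • z ∈ Δ.line (g • x) (g • y) ↔ z ∈ Δ.line x y := by
  have key : ∀ (g : G) (x y z : X), z ∈ Δ.line x y → g • z ∈ Δ.line (g • x) (g • y) := by
    intro g x y z hz
    rw [Δ.mem_line] at hz ⊢
    intro a ha
    have h1 := Δ.T_conj g⁻¹ (g • x) a ha.1
    rw [inv_smul_smul] at h1
    have h2 : g⁻¹ * a * g⁻¹⁻¹ ∈ stabilizer G y := mem_stabilizer_iff.2 (by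
      rw [inv_inv, mul_smul, mul_smul, mem_stabilizer_iff.1 ha.2, inv_smul_smul])
    have := hz _ ⟨h1, h2⟩
    rwa [inv_inv, mul_smul, mul_smul, inv_smul_eq_iff] at this
  refine ⟨fun h => ?_, key g x y z⟩
  have := key g⁻¹ _ _ _ h
  simpa using this

/-- lines through the centre are preserved -/
lemma smul_mem_centre_line {x y : X} {u : G} (hu : u ∈ Δ.T x) : u • y ∈ Δ.line x y := by
  rw [Δ.mem_line]
  intro a ha
  rw [← mul_smul, Δ.T_comm x a ha.1 u hu, mul_smul, mem_stabilizer_iff.1 ha.2]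

lemma smul_mem_centre_line' {x y z : X} {u : G} (hu : u ∈ Δ.T x) (hz : z ∈ Δ.line x y) :
    u • z ∈ Δ.line x y := by
  rw [Δ.mem_line] at hz ⊢
  intro a ha
  rw [← mul_smul, Δ.T_comm x a ha.1 u hu, mul_smul, hz a ha]

/-- fixing a point means fixing the whole line to the centre -/
lemma fixed_centre_line {x y z : X} {g : G} (hg : g ∈ Δ.T x) (hy : g • y = y)
    (hz : z ∈ Δ.line x y) : g • z = z :=
  Δ.mem_line.1 hz g ⟨hg, hy⟩

lemma fixed_line {B P Q R : X} {a : G} (ha : a ∈ Δ.T B) (hPQ : P ≠ Q) (hB : B ∉ Δ.line P Q)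
    (hP : a • P = P) (hQ : a • Q = Q) (hR : R ∈ Δ.line P Q) : a • R = R := by
  have h1 := (Δ.smul_mem_line (g := a)).2 hR
  rw [hP, hQ] at h1
  by_contra hne
  have hBR : B ≠ R := fun e => hB (e ▸ hR)
  apply hB
  rw [← Δ.line_eq hPQ hR h1 (Ne.symm hne),
    Δ.line_eq hBR (Δ.right_mem_line B R) (Δ.smul_mem_centre_line ha) (Ne.symm hne)]
  exact Δ.left_mem_line B R

lemma card_line_const {x y u w : X} (hxy : x ≠ y) (huw : u ≠ w) :
    (Δ.line x y).card = (Δ.line u w).card := by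
  classical
  obtain ⟨g, rfl, rfl⟩ := Δ.trans2 x y u w hxy huw
  refine Finset.card_bij (fun z _ => g • z) (fun z hz => Δ.smul_mem_line.2 hz)
    (fun a _ b _ e => MulAction.injective g e) (fun z hz => ⟨g⁻¹ • z, ?_, smul_inv_smul g z⟩)
  rw [← Δ.smul_mem_line (g := g), smul_inv_smul]
  exact hz

lemma exists_notMem_line {x y : X} (hxy : x ≠ y) : ∃ z, z ∉ Δ.line x y := by
  by_contra hc
  push Not at hc
  haveI := Finite.one_lt_card_iff_nontrivial.1 (Δ.one_lt_card_A hxy)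
  obtain ⟨⟨a, ha⟩, ha1⟩ := exists_ne (1 : ↥(Δ.A x y))
  exact ha1 (Subtype.ext (Δ.faith a fun z => Δ.mem_line.1 (hc z) a ha))

/-- the length of the orbits of `T x` off `x` -/
lemma exists_orbit_len : ∃ t, 2 ≤ t ∧
    ∀ x y : X, x ≠ y → Nat.card ↥(Δ.A x y) * t = Nat.card ↥(Δ.T x) := by
  obtain ⟨x₀, y₀, h₀, -⟩ := Δ.exists_pair
  have h := card_orbit_mul (Δ.T x₀) y₀
  refine ⟨Nat.card (orbit (Δ.T x₀) y₀), ?_, fun x y hxy => ?_⟩
  · obtain ⟨u, hu, hu'⟩ := SetLike.not_le_iff_exists.1 (Δ.not_le_stab h₀)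
    haveI : Nontrivial (orbit (Δ.T x₀) y₀) :=
      ⟨⟨⟨y₀, mem_orbit_self y₀⟩, ⟨u • y₀, mem_orbit y₀ (⟨u, hu⟩ : Δ.T x₀)⟩,
        fun e => hu' (congrArg Subtype.val e).symm⟩⟩
    exact Finite.one_lt_card
  · rw [Δ.card_A_const hxy h₀, Δ.card_T_const x x₀, mul_comm]
    exact h

end Setting

end Cfsg.Lib.ONanAbelian
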