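import Cfsg.Agent.ItoDesign.Construct

/-!
# A family of equally large blocks meeting in constant size, with a 2-transitive group, is a symmetric design
-/

set_option autoImplicit false
set_option linter.style.haveILetI false
set_option linter.unusedSectionVars false
set_option linter.unusedVariables false
set_option linter.unusedSimpArgs false

open MulAction
open Cfsg.Lib.ItoDesign (sum_fixed card_fixed_prod card_orbits_eq_two trans_of_two_orbits)

namespace Cfsg.Lib.ONanAbelian

universe u v w

/-- double counting of an incidence relation -/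
lemma count_incidence {I : Type*} {J : Type*} [Fintype I] [Fintype J] (rel : I → J → Prop) (a c : ℕ)
    (hr : ∀ i, Nat.card {j : J // rel i j} = a) (hc : ∀ j, Nat.card {i : I // rel i j} = c) :
    Nat.card I * a = Nat.card J * c := by
  classical
  have h : ∑ i, Nat.card {j : J // rel i j} = ∑ j, Nat.card {i : I // rel i j} := by
    simp only [Nat.card_eq_fintype_card, Fintype.card_subtype, Finset.card_filter]
    exact Finset.sum_comm
  simp only [hr, hc, Finset.sum_const, Finset.card_univ, smul_eq_mul] at h
  simpa only [Nat.card_eq_fintype_card] using h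

/-- Fisher's inequality -/
lemma fisher {I : Type*} {J : Type*} [Fintype I] [Fintype J] (rel : I → J → Prop) (a c : ℕ)
    (hca : c < a) (h1 : ∀ i, Nat.card {j : J // rel i j} = a)
    (h2 : ∀ i i', i ≠ i' → Nat.card {j : J // rel i j ∧ rel i' j} = c) :
    Fintype.card I ≤ Fintype.card J := by
  classical
  let A : Matrix I J ℚ := fun i j => if rel i j then 1 else 0
  have hAap : ∀ i j, A i j = if rel i j then 1 else 0 := fun _ _ => rfl
  have hAAt : A * A.transpose =
      ((a : ℚ) - c) • (1 : Matrix I I ℚ) + (c : ℚ) • (Matrix.of fun _ _ => (1 : ℚ)) := by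
    ext i i'
    rw [Matrix.mul_apply]
    simp only [hAap, Matrix.transpose_apply, ← ite_and, Matrix.add_apply, Matrix.smul_apply,
      Matrix.one_apply, Matrix.of_apply, smul_eq_mul, mul_ite, ite_mul, one_mul, mul_one, zero_mul,
      mul_zero]
    rw [Finset.sum_boole]
    by_cases h : i = i'
    · subst h
      rw [if_pos rfl]
      simp only [and_self]
      rw [← Fintype.card_subtype, ← Nat.card_eq_fintype_card, h1]
      ring
    · rw [if_neg h, zero_add, Nat.cast_inj, ← h2 i' i (Ne.symm h), Nat.card_eq_fintype_card,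
        Fintype.card_subtype]
  have hAt : Function.Injective A.transpose.mulVecLin := by
    rw [injective_iff_map_eq_zero]
    intro u hu
    rw [Matrix.mulVecLin_apply] at hu
    have h1 : (A * A.transpose).mulVec u = 0 := by
      rw [← Matrix.mulVec_mulVec, hu, Matrix.mulVec_zero]
    rw [hAAt] at h1
    have h2 : ∀ i, ((a : ℚ) - c) * u i + (c : ℚ) * ∑ z, u z = 0 := fun i => by
      have := congrFun h1 i
      rw [Matrix.add_mulVec, Matrix.smul_mulVec, Matrix.smul_mulVec, Matrix.one_mulVec] at this
      simpa [Matrix.mulVec, dotProduct] using this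
    have hkl : (c : ℚ) < a := by exact_mod_cast hca
    have hs : ∑ z, u z = 0 := by
      have h3 : ∑ i, (((a : ℚ) - c) * u i + (c : ℚ) * ∑ z, u z) = 0 :=
        Finset.sum_eq_zero fun i _ => h2 i
      rw [Finset.sum_add_distrib, ← Finset.mul_sum, Finset.sum_const, Finset.card_univ,
        nsmul_eq_mul, ← mul_assoc, ← add_mul, mul_eq_zero] at h3
      refine h3.resolve_left ?_
      have : (0 : ℚ) ≤ (Fintype.card I : ℚ) * c := by positivity
      intro h0; linarith
    funext i
    have := h2 i
    rw [hs, mul_zero, add_zero, mul_eq_zero] at this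
    exact this.resolve_left (by intro h0; linarith)
  have := LinearMap.finrank_le_finrank_of_injective hAt
  simpa [Module.finrank_fintype_fun_eq_card] using this

lemma card_ne_and {I : Type*} [Fintype I] (i₀ : I) (p : I → Prop) (h0 : p i₀) :
    Nat.card {i : {i : I // i ≠ i₀} // p i.1} = Nat.card {i : I // p i} - 1 := by
  classical
  rw [Nat.card_congr (Equiv.subtypeSubtypeEquivSubtypeInter (fun i => i ≠ i₀) p),
    Nat.card_eq_fintype_card, Nat.card_eq_fintype_card, Fintype.card_subtype, Fintype.card_subtype,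
    ← Finset.card_erase_of_mem (show i₀ ∈ Finset.univ.filter p by simp [h0])]
  congr 1
  ext i; simp

/-- the two basic equations of a design -/
lemma basic_eq {I : Type*} {J : Type*} [Fintype I] [Fintype J] (rel : I → J → Prop) (r k lam : ℕ)
    (h1 : ∀ i, Nat.card {j : J // rel i j} = r) (hk : ∀ j, Nat.card {i : I // rel i j} = k)
    (h2 : ∀ i i', i ≠ i' → Nat.card {j : J // rel i j ∧ rel i' j} = lam) (i₀ : I) :
    lam * (Fintype.card I - 1) = r * (k - 1) := by
  classical
  have h := count_incidence (fun (i : {i : I // i ≠ i₀}) (j : {j : J // rel i₀ j}) => rel i.1 j.1)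
    lam (k - 1) (fun i => by
      rw [← h2 i₀ i.1 (Ne.symm i.2)]
      exact Nat.card_congr (Equiv.subtypeSubtypeEquivSubtypeInter _ _))
    (fun j => by rw [← hk j.1]; exact card_ne_and i₀ (fun i => rel i j.1) j.2)
  rw [h1 i₀] at h
  rw [← h, mul_comm]
  congr 1
  rw [Nat.card_eq_fintype_card, Fintype.card_subtype_compl, Fintype.card_subtype_eq]

variable {G : Type u} [Group G] [Fintype G] {X : Type v} [MulAction G X] [Fintype X]
  {Y : Type w} [MulAction G Y] [Fintype Y]

/-- blocks of constant size meeting in constant size form a symmetric design -/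
theorem exists_symmetric_design (inc : X → Y → Prop)
    (inc_smul : ∀ (g : G) (x : X) (S : Y), inc (g • x) (g • S) ↔ inc x S) (k lam : ℕ)
    (hkY : ∀ S : Y, Nat.card {x : X // inc x S} = k)
    (hlamY : ∀ S T : Y, S ≠ T → Nat.card {x : X // inc x S ∧ inc x T} = lam)
    (hlam1 : 1 ≤ lam) (hlamk : lam < k) (hk2 : k + 2 ≤ Fintype.card X)
    (htr2 : ∀ a b c d : X, a ≠ b → c ≠ d → ∃ g : G, g • a = c ∧ g • b = d)
    (hfaith : ∀ g : G, (∀ x : X, g • x = x) → g = 1) (hY : ∃ S T : Y, S ≠ T) :
    ∃ D : Cfsg.Lib.ItoDesign.Design G X Y, D.inc = inc := by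
  classical
  set n := Fintype.card X with hn
  set b := Fintype.card Y with hb
  obtain ⟨S₀, S₁, hS⟩ := hY
  haveI : Nontrivial X := Fintype.one_lt_card_iff_nontrivial.1 (by omega)
  obtain ⟨y₁, y₂, hy12⟩ := exists_pair_ne X
  have htr1 : ∀ y y' : X, ∃ g : G, g • y = y' := by
    intro y y'
    obtain ⟨z, hz⟩ := exists_ne y
    obtain ⟨z', hz'⟩ := exists_ne y'
    obtain ⟨g, hg, -⟩ := htr2 y z y' z' (Ne.symm hz) (Ne.symm hz')
    exact ⟨g, hg⟩
  set r := Nat.card {S : Y // inc y₁ S} with hr
  have hrX : ∀ x, Nat.card {S : Y // inc x S} = r := by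
    intro x
    obtain ⟨g, rfl⟩ := htr1 y₁ x
    exact (Nat.card_congr ((MulAction.toPerm g).subtypeEquiv fun S => (inc_smul g y₁ S).symm)).symm
  set l := Nat.card {S : Y // inc y₁ S ∧ inc y₂ S} with hl
  have hlX : ∀ x y, x ≠ y → Nat.card {S : Y // inc x S ∧ inc y S} = l := by
    intro x y hxy
    obtain ⟨g, rfl, rfl⟩ := htr2 y₁ y₂ x y hy12 hxy
    exact (Nat.card_congr ((MulAction.toPerm g).subtypeEquiv fun S => by
      show _ ↔ inc (g • y₁) (g • S) ∧ inc (g • y₂) (g • S)
      rw [inc_smul, inc_smul])).symm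
  have hnr : n * r = b * k := by
    have := count_incidence inc r k hrX hkY
    rwa [Nat.card_eq_fintype_card, Nat.card_eq_fintype_card] at this
  have hbpos : 0 < b := Fintype.card_pos_iff.2 ⟨S₀⟩
  have hr0 : 0 < r := by
    rcases Nat.eq_zero_or_pos r with h | h
    · rw [h, mul_zero] at hnr
      rcases Nat.mul_eq_zero.1 hnr.symm with h' | h' <;> omega
    · exact h
  have hb1 : l * (n - 1) = r * (k - 1) := basic_eq inc r k l hrX hkY hlX y₁
  have hb2 : lam * (b - 1) = k * (r - 1) := basic_eq (fun S x => inc x S) k r lam hkY hrX hlamY S₀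
  have hlr : l < r := by
    by_contra hc
    have h1 : r * (n - 1) ≤ r * (k - 1) := by rw [← hb1]; exact Nat.mul_le_mul_right _ (not_lt.1 hc)
    have := Nat.le_of_mul_le_mul_left h1 hr0
    omega
  have hle1 : n ≤ b := fisher inc r l hlr hrX hlX
  have hle2 : b ≤ n := fisher (fun S x => inc x S) k lam hlamk hkY hlamY
  have hbn : b = n := le_antisymm hle2 hle1
  have hrk : r = k := Nat.eq_of_mul_eq_mul_left (by omega : 0 < n) (by rw [hnr, hbn])
  have hll : l = lam := by
    rw [hbn, hrk] at hb2
    rw [hrk] at hb1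
    exact Nat.eq_of_mul_eq_mul_right (by omega : 0 < n - 1) (by rw [hb1, hb2])
  have hkX : ∀ x, Nat.card {S : Y // inc x S} = k := fun x => by rw [hrX, hrk]
  have hlamX : ∀ x y, x ≠ y → Nat.card {S : Y // inc x S ∧ inc y S} = lam :=
    fun x y h => by rw [hlX x y h, hll]
  -- fixed points
  have hfixeq : ∀ g : G, Nat.card {x : X // g • x = x} = Nat.card {S : Y // g • S = S} := by
    intro g
    have h1 : ∑ x : X, Nat.card {S : Y // inc x S ∧ inc (g • x) S} =
        ∑ S : Y, Nat.card {x : X // inc x S ∧ inc x (g⁻¹ • S)} := by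
      simp only [Nat.card_eq_fintype_card, Fintype.card_subtype, Finset.card_filter]
      rw [Finset.sum_comm]
      refine Finset.sum_congr rfl fun S _ => Finset.sum_congr rfl fun x _ => ?_
      rw [show inc (g • x) S ↔ inc x (g⁻¹ • S) by rw [← inc_smul g x, smul_inv_smul]]
    have e1 : ∀ x : X, Nat.card {S : Y // inc x S ∧ inc (g • x) S} =
        lam + if g • x = x then k - lam else 0 := by
      intro x
      split
      next h => simp only [h, and_self, hkX]; omega
      next h => rw [hlamX x _ (Ne.symm h)]; rfl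
    have e2 : ∀ S : Y, Nat.card {x : X // inc x S ∧ inc x (g⁻¹ • S)} =
        lam + if g • S = S then k - lam else 0 := by
      intro S
      split
      next h =>
        rw [inv_smul_eq_iff.2 h.symm]
        simp only [and_self, hkY]; omega
      next h => rw [hlamY S _ (fun e => h (by conv_lhs => rw [e, smul_inv_smul]))]; rfl
    rw [Finset.sum_congr rfl (fun x _ => e1 x), Finset.sum_congr rfl (fun S _ => e2 S),
      Finset.sum_add_distrib, Finset.sum_add_distrib, Finset.sum_const, Finset.sum_const,
      Finset.card_univ, Finset.card_univ, ← hb, ← hn, hbn, Nat.add_left_cancel_iff, ← Finset.sum_filter,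
      ← Finset.sum_filter, Finset.sum_const, Finset.sum_const, smul_eq_mul, smul_eq_mul] at h1
    rw [Nat.card_eq_fintype_card, Nat.card_eq_fintype_card, Fintype.card_subtype, Fintype.card_subtype]
    exact Nat.eq_of_mul_eq_mul_right (by omega) h1
  -- orbits on pairs
  have hXX : Nat.card (orbitRel.Quotient G (X × X)) = 2 :=
    card_orbits_eq_two (P := fun p => p.1 = p.2) (fun g p => smul_left_cancel_iff g)
      (a₁ := (y₁, y₁)) (a₀ := (y₁, y₂)) rfl hy12 (fun p p' h => by
        by_cases hp : p.1 = p.2
        · obtain ⟨g, hg⟩ := htr1 p.1 p'.1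
          exact ⟨g, Prod.ext hg (show g • p.2 = p'.2 by rw [← hp, hg, h.1 hp])⟩
        · obtain ⟨g, hg1, hg2⟩ := htr2 _ _ _ _ hp (mt h.2 hp)
          exact ⟨g, Prod.ext hg1 hg2⟩)
  have hYYc : Nat.card (orbitRel.Quotient G (Y × Y)) = 2 := by
    refine Nat.eq_of_mul_eq_mul_right (Fintype.card_pos (α := G)) ?_
    rw [← hXX, ← sum_fixed, ← sum_fixed]
    refine Finset.sum_congr rfl fun g _ => ?_
    rw [card_fixed_prod, card_fixed_prod, hfixeq]
  have hXYc : Nat.card (orbitRel.Quotient G (X × Y)) = 2 := by
    refine Nat.eq_of_mul_eq_mul_right (Fintype.card_pos (α := G)) ?_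
    rw [← hXX, ← sum_fixed, ← sum_fixed]
    refine Finset.sum_congr rfl fun g _ => ?_
    rw [card_fixed_prod, card_fixed_prod, hfixeq]
  obtain ⟨x₁, hx₁⟩ : ∃ x, inc x S₀ := by
    by_contra hc
    push Not at hc
    haveI : IsEmpty {x : X // inc x S₀} := ⟨fun x => hc x.1 x.2⟩
    have := hkY S₀
    rw [Nat.card_of_isEmpty] at this
    omega
  obtain ⟨x₀, hx₀⟩ : ∃ x, ¬ inc x S₀ := by
    by_contra hc
    push Not at hc
    have := hkY S₀
    rw [Nat.card_congr (Equiv.subtypeUnivEquiv hc), Nat.card_eq_fintype_card, ← hn] at this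
    omega
  refine ⟨{ inc := inc
            inc_smul := inc_smul
            k := k
            lam := lam
            card_eq := hbn
            kX := hkX
            kY := hkY
            lamX := hlamX
            lamY := hlamY
            transX := htr2
            transY := fun a b' c d hab hcd => ?_
            transXY := fun x x' S S' h => ?_
            faithX := hfaith
            faithY := fun g hg => ?_
            one_le_lam := hlam1
            lam_lt := hlamk
            k_add_two := hk2
            fix_eq := hfixeq }, rfl⟩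
  · obtain ⟨g, hg⟩ := trans_of_two_orbits (P := fun p : Y × Y => p.1 = p.2)
      (fun g p => smul_left_cancel_iff g) (a₁ := (S₀, S₀)) (a₀ := (S₀, S₁)) rfl hS hYYc
      (a := (a, b')) (b := (c, d)) (iff_of_false hab hcd)
    exact ⟨g, congrArg Prod.fst hg, congrArg Prod.snd hg⟩
  · obtain ⟨g, hg⟩ := trans_of_two_orbits (P := fun p : X × Y => inc p.1 p.2)
      (fun g p => inc_smul g p.1 p.2) (a₁ := (x₁, S₀)) (a₀ := (x₀, S₀)) hx₁ hx₀ hXYc
      (a := (x, S)) (b := (x', S')) h
    exact ⟨g, congrArg Prod.fst hg, congrArg Prod.snd hg⟩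
  · have h1 : Nat.card {x : X // g • x = x} = Nat.card X := by
      rw [hfixeq g, Nat.card_congr (Equiv.subtypeUnivEquiv hg), Nat.card_eq_fintype_card,
        Nat.card_eq_fintype_card, ← hb, hbn]
    refine hfaith g fun x => ?_
    by_contra hx
    have h2 : Nat.card {x : X // g • x = x} < Nat.card X := by
      rw [Nat.card_eq_fintype_card, Nat.card_eq_fintype_card]
      exact Fintype.card_subtype_lt hx
    omega

end Cfsg.Lib.ONanAbelian
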