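import Cfsg.Agent.ONanAbelian.Lines
import Cfsg.Agent.ONanAbelian.Sym

/-!
# The fixed point sets of the elements of `T x` are the hyperplanes
-/

set_option autoImplicit false
set_option linter.style.haveILetI false
set_option linter.unusedSectionVars false
set_option linter.unusedVariables false

open MulAction

namespace Cfsg.Lib.ONanAbelian

universe u v

variable {G : Type u} {X : Type v} [Group G] [MulAction G X] [Fintype X] [Fintype G]

namespace Setting

variable (Δ : Setting G X)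

open scoped _root_.Classical in
/-- the fixed points of an element -/
noncomputable def fx (g : G) : Finset X := Finset.univ.filter fun z => g • z = z

lemma mem_fx {g : G} {z : X} : z ∈ fx g ↔ g • z = z := by simp [fx]

/-- a hyperplane -/
def IsHyp (H : Finset X) : Prop := ∃ x : X, ∃ g ∈ Δ.T x, g ≠ 1 ∧ H = fx g

/-- closed under lines -/
def LineClosed (S : Finset X) : Prop :=
  ∀ P Q R : X, P ∈ S → Q ∈ S → P ≠ Q → R ∈ Δ.line P Q → R ∈ S

lemma closed_hyp {H : Finset X} (hH : Δ.IsHyp H) : Δ.LineClosed H := by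
  obtain ⟨x, g, hg, -, rfl⟩ := hH
  intro P Q R hP hQ hPQ hR
  rw [mem_fx] at hP hQ ⊢
  by_cases hx : x ∈ Δ.line P Q
  · by_cases hPx : P = x
    · subst hPx
      exact Δ.fixed_centre_line hg hQ hR
    · refine Δ.fixed_centre_line hg hP ?_
      rw [Δ.line_eq hPQ hx (Δ.left_mem_line P Q) (Ne.symm hPx)]
      exact hR
  · exact Δ.fixed_line hg hPQ hx hP hQ hR

lemma meets {H : Finset X} (hH : Δ.IsHyp H) {y z : X} (hyz : y ≠ z) :
    ∃ d ∈ Δ.line y z, d ∈ H := by
  obtain ⟨x, g, hg, -, rfl⟩ := hH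
  by_cases hx : x ∈ Δ.line y z
  · exact ⟨x, hx, mem_fx.2 (Δ.smul_self hg)⟩
  · obtain ⟨d, hd, hgd⟩ := Δ.exists_fixed_on_line hyz hx hg
    exact ⟨d, hd, mem_fx.2 hgd⟩

lemma exists_notMem_hyp {H : Finset X} (hH : Δ.IsHyp H) : ∃ z, z ∉ H := by
  obtain ⟨x, g, hg, hg1, rfl⟩ := hH
  by_contra hc
  push Not at hc
  exact hg1 (Δ.faith g fun z => mem_fx.1 (hc z))

include Δ in
lemma exists_ne_point (x : X) : ∃ y : X, y ≠ x := by
  obtain ⟨a, b, hab, -⟩ := Δ.exists_pair
  by_cases h : a = x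
  · exact ⟨b, fun e => hab (h.trans e.symm)⟩
  · exact ⟨a, h⟩

/-- the number of points of a line, minus one -/
noncomputable def ell : ℕ := (Δ.line Δ.exists_pair.choose Δ.exists_pair.choose_spec.choose).card - 1

lemma card_line {x y : X} (h : x ≠ y) : (Δ.line x y).card - 1 = Δ.ell := by
  rw [ell, Δ.card_line_const h Δ.exists_pair.choose_spec.choose_spec.1]

lemma two_le_ell : 2 ≤ Δ.ell := by
  obtain ⟨t, ht2, ht⟩ := Δ.exists_orbit_len
  obtain ⟨x, y, h, -⟩ := Δ.exists_pair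
  have h1 := Δ.card_line_eq h
  rw [← ht x y h, Δ.card_line h, mul_comm (Nat.card _) t] at h1
  rwa [Nat.eq_of_mul_eq_mul_right Nat.card_pos h1]

open scoped _root_.Classical in
/-- the lines through a point off `H` cut `H` and cover -/
lemma card_eq_mul {H S : Finset X} (hH : Δ.IsHyp H) (hS : Δ.LineClosed S) {z : X} (hz : z ∈ S)
    (hzH : z ∉ H) : S.card - 1 = (H ∩ S).card * Δ.ell := by
  have hd : ∀ d ∈ H ∩ S, z ≠ d := fun d hd e => hzH (by rw [e]; exact (Finset.mem_inter.1 hd).1)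
  have e : S.erase z = (H ∩ S).biUnion fun d => (Δ.line z d).erase z := by
    ext w
    simp only [Finset.mem_erase, Finset.mem_biUnion, Finset.mem_inter]
    constructor
    · rintro ⟨hwz, hw⟩
      obtain ⟨d, hd1, hd2⟩ := Δ.meets hH (Ne.symm hwz)
      refine ⟨d, ⟨hd2, hS z w d hz hw (Ne.symm hwz) hd1⟩, hwz, ?_⟩
      rw [Δ.line_eq (Ne.symm hwz) (Δ.left_mem_line z w) hd1 (fun e => hzH (by rw [e]; exact hd2))]
      exact Δ.right_mem_line z w
    · rintro ⟨d, ⟨hdH, hdS⟩, hwz, hw⟩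
      exact ⟨hwz, hS z d w hz hdS (fun e => hzH (by rw [e]; exact hdH)) hw⟩
  have hdisj : ((H ∩ S : Finset X) : Set X).PairwiseDisjoint fun d => (Δ.line z d).erase z := by
    intro d hdm d' hdm' hne
    rw [Function.onFun, Finset.disjoint_left]
    intro w hw hw'
    rw [Finset.mem_erase] at hw hw'
    apply hzH
    have h1 : Δ.line z w = Δ.line z d := Δ.line_eq (hd d hdm) (Δ.left_mem_line z d) hw.2 (Ne.symm hw.1)
    have h2 : Δ.line z w = Δ.line z d' :=
      Δ.line_eq (hd d' hdm') (Δ.left_mem_line z d') hw'.2 (Ne.symm hw.1)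
    refine Δ.closed_hyp hH d d' z (Finset.mem_inter.1 hdm).1 (Finset.mem_inter.1 hdm').1 hne ?_
    rw [Δ.line_eq (hd d hdm) (Δ.right_mem_line z d)
      (by rw [← h1, h2]; exact Δ.right_mem_line z d') hne]
    exact Δ.left_mem_line z d
  rw [← Finset.card_erase_of_mem hz, e, Finset.card_biUnion hdisj,
    Finset.sum_congr rfl (g := fun _ => Δ.ell) (fun d hdm => by
      rw [Finset.card_erase_of_mem (Δ.left_mem_line z d), Δ.card_line (hd d hdm)]),
    Finset.sum_const, smul_eq_mul]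

lemma card_hyp_mul {H : Finset X} (hH : Δ.IsHyp H) : Fintype.card X - 1 = H.card * Δ.ell := by
  classical
  obtain ⟨z, hz⟩ := Δ.exists_notMem_hyp hH
  have h := Δ.card_eq_mul hH (S := Finset.univ) (fun _ _ R _ _ _ _ => Finset.mem_univ R)
    (Finset.mem_univ z) hz
  rwa [Finset.card_univ, Finset.inter_univ] at h

lemma card_hyp {H H' : Finset X} (hH : Δ.IsHyp H) (hH' : Δ.IsHyp H') : H.card = H'.card :=
  Nat.eq_of_mul_eq_mul_right (show 0 < Δ.ell by have := Δ.two_le_ell; omega)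
    ((Δ.card_hyp_mul hH).symm.trans (Δ.card_hyp_mul hH'))

open scoped _root_.Classical in
lemma card_hyp_inter {H H' : Finset X} (hH : Δ.IsHyp H) (hH' : Δ.IsHyp H') (hne : H ≠ H') :
    H.card - 1 = (H ∩ H').card * Δ.ell := by
  obtain ⟨z, hz, hzH⟩ : ∃ z ∈ H', z ∉ H := by
    by_contra hc
    push Not at hc
    exact hne (Finset.eq_of_subset_of_card_le hc (Δ.card_hyp hH hH').le).symm
  rw [Δ.card_hyp hH hH']
  exact Δ.card_eq_mul hH (Δ.closed_hyp hH') hz hzH

open scoped _root_.Classical in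
lemma two_le_card_hyp {H : Finset X} (hH : Δ.IsHyp H) : 2 ≤ H.card := by
  obtain ⟨x, g, hg, hg1, hHeq⟩ := id hH
  have hx : x ∈ H := by rw [hHeq]; exact mem_fx.2 (Δ.smul_self hg)
  obtain ⟨y, hy⟩ := Δ.exists_ne_point x
  obtain ⟨z, hz⟩ := Δ.exists_notMem_line (Ne.symm hy)
  have hyz : y ≠ z := fun e => hz (e ▸ Δ.right_mem_line x y)
  have hxl : x ∉ Δ.line y z := fun h => hz (by
    rw [Δ.line_comm (Ne.symm hy), Δ.line_eq hyz (Δ.left_mem_line y z) h hy]
    exact Δ.right_mem_line y z)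
  obtain ⟨d, hd, hdH⟩ := Δ.meets hH hyz
  have := Finset.card_le_card (show ({x, d} : Finset X) ⊆ H by
    intro w hw
    simp only [Finset.mem_insert, Finset.mem_singleton] at hw
    rcases hw with rfl | rfl <;> assumption)
  rwa [Finset.card_pair (fun e : x = d => hxl (by rw [e]; exact hd))] at this

open scoped _root_.Classical in
lemma image_hyp (h : G) {H : Finset X} (hH : Δ.IsHyp H) : Δ.IsHyp (H.image (h • ·)) := by
  obtain ⟨x, g, hg, hg1, rfl⟩ := hH
  refine ⟨h • x, h * g * h⁻¹, Δ.T_conj h x g hg, fun e => hg1 ?_, ?_⟩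
  · rw [mul_inv_eq_one] at e
    exact mul_left_cancel (a := h) (by rw [e, mul_one])
  · ext w
    simp only [Finset.mem_image, mem_fx, mul_smul]
    constructor
    · rintro ⟨v, hv, rfl⟩
      rw [inv_smul_smul, hv]
    · intro hw
      exact ⟨h⁻¹ • w, eq_inv_smul_iff.2 hw, smul_inv_smul h w⟩

include Δ in
/-- the group generated by the elations is `PSL` -/
theorem exists_psl :
    ∃ (M : ℕ) (F : Type) (_ : Field F) (_ : Fintype F), 2 ≤ M ∧
      ∃ N : Subgroup G, N.Normal ∧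
        Nonempty (N ≃* Matrix.ProjectiveSpecialLinearGroup (Fin (M + 1)) F) ∧
        Subgroup.centralizer (N : Set G) = ⊥ := by
  classical
  let Y := {H : Finset X // Δ.IsHyp H}
  letI actY : MulAction G Y :=
    { smul := fun h H => ⟨H.1.image (h • ·), Δ.image_hyp h H.2⟩
      one_smul := fun H => Subtype.ext (by
        show H.1.image ((1 : G) • ·) = H.1
        simp)
      mul_smul := fun a b H => Subtype.ext (by
        show H.1.image ((a * b) • ·) = (H.1.image (b • ·)).image (a • ·)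
        rw [Finset.image_image]
        simp [Function.comp_def, mul_smul]) }
  have smul_val : ∀ (h : G) (H : Y), (h • H).1 = H.1.image (h • ·) := fun _ _ => rfl
  obtain ⟨x₀, y₀, hxy, hne⟩ := Δ.exists_pair
  obtain ⟨⟨g₀, hg₀⟩, hg₀1⟩ :=
    (Subgroup.ne_bot_iff_exists_ne_one.1 hne : ∃ a : ↥(Δ.A x₀ y₀), a ≠ 1)
  have hg₀1' : g₀ ≠ 1 := fun e => hg₀1 (Subtype.ext e)
  let H₀ : Y := ⟨fx g₀, x₀, g₀, hg₀.1, hg₀1', rfl⟩
  have hx₀ : x₀ ∈ H₀.1 := mem_fx.2 (Δ.smul_self hg₀.1)
  obtain ⟨z, hz⟩ := Δ.exists_notMem_hyp H₀.2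
  obtain ⟨w, hw⟩ := Δ.exists_ne_point z
  obtain ⟨h₁, hh₁, -⟩ := Δ.trans2 x₀ y₀ z w hxy (Ne.symm hw)
  have hne01 : H₀ ≠ h₁ • H₀ := by
    intro e
    apply hz
    rw [e, smul_val, Finset.mem_image]
    exact ⟨x₀, hx₀, hh₁⟩
  set k := H₀.1.card with hk
  set lam := (H₀.1 ∩ (h₁ • H₀).1).card with hlam
  have hlamY : ∀ S T : Y, S ≠ T → (S.1 ∩ T.1).card = lam := fun S T h => by
    have h1 := Δ.card_hyp_inter S.2 T.2 (fun e => h (Subtype.ext e))
    have h2 := Δ.card_hyp_inter H₀.2 (h₁ • H₀).2 (fun e => hne01 (Subtype.ext e))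
    rw [Δ.card_hyp S.2 H₀.2] at h1
    exact Nat.eq_of_mul_eq_mul_right (show 0 < Δ.ell by have := Δ.two_le_ell; omega)
      (h1.symm.trans h2)
  have hk2 : 2 ≤ k := Δ.two_le_card_hyp H₀.2
  have hkl : k - 1 = lam * Δ.ell :=
    Δ.card_hyp_inter H₀.2 (h₁ • H₀).2 (fun e => hne01 (Subtype.ext e))
  have hnk : Fintype.card X - 1 = k * Δ.ell := Δ.card_hyp_mul H₀.2
  have hl2 := Δ.two_le_ell
  have hlam1 : 1 ≤ lam := by
    rcases Nat.eq_zero_or_pos lam with h | h
    · rw [h, zero_mul] at hkl; omega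
    · exact h
  have hlamk : lam < k := by
    have := Nat.le_mul_of_pos_right lam (show 0 < Δ.ell by omega)
    omega
  have hkn : k + 2 ≤ Fintype.card X := by
    have := Nat.mul_le_mul_left k hl2
    omega
  obtain ⟨D, hD⟩ := exists_symmetric_design (G := G) (X := X) (Y := Y)
    (fun x S => x ∈ S.1)
    (fun g x S => by rw [smul_val]; exact (MulAction.injective g).mem_finset_image)
    k lam
    (fun S => by
      rw [Nat.card_eq_fintype_card, Fintype.card_coe]
      exact Δ.card_hyp S.2 H₀.2)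
    (fun S T h => by
      rw [← hlamY S T h, Nat.card_eq_fintype_card, Fintype.card_subtype]
      congr 1
      ext x; simp)
    hlam1 hlamk hkn Δ.trans2 Δ.faith ⟨H₀, h₁ • H₀, hne01⟩
  have hK : ∀ B : X, D.K B ≠ ⊥ := by
    intro B
    obtain ⟨y, hy⟩ := Δ.exists_ne_point B
    haveI := Finite.one_lt_card_iff_nontrivial.1 (Δ.one_lt_card_A (Ne.symm hy))
    obtain ⟨⟨a, ha⟩, ha1⟩ := exists_ne (1 : ↥(Δ.A B y))
    rw [Subgroup.ne_bot_iff_exists_ne_one]
    refine ⟨⟨a, Δ.smul_self ha.1, fun S hS => ?_⟩, fun e => ha1 (Subtype.ext (congrArg Subtype.val e :))⟩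
    rw [hD] at hS
    refine Subtype.ext ?_
    rw [smul_val]
    refine Finset.eq_of_subset_of_card_le ?_
      (by rw [Finset.card_image_of_injective _ (MulAction.injective a)])
    intro v hv
    obtain ⟨u, hu, rfl⟩ := Finset.mem_image.1 hv
    show a • u ∈ S.1
    by_cases huB : u = B
    · rw [huB, Δ.smul_self ha.1]; exact hS
    · exact Δ.closed_hyp S.2 B u _ hS hu (Ne.symm huB) (Δ.smul_mem_centre_line ha.1)
  obtain ⟨M, F, fF, fFin, hM, -, N, hN, hiso, hc⟩ := D.exists_psl hK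
  exact ⟨M, F, fF, fFin, hM, N, hN, hiso, hc⟩

end Setting

end Cfsg.Lib.ONanAbelian
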