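import Cfsg.Agent.ONanAbelian.Basic

/-!
# Every elation meets every line
-/

set_option autoImplicit false
set_option linter.style.haveILetI false
set_option linter.unusedSectionVars false
set_option linter.unusedVariables false

open MulAction
open Cfsg.Lib.ItoDesign (card_orbit_mul dvd_card_of_orbits)

namespace Cfsg.Lib.ONanAbelian

universe u v

variable {G : Type u} {X : Type v} [Group G] [MulAction G X] [Fintype X] [Fintype G]

namespace Setting

variable (Δ : Setting G X)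

/-- the pointwise stabiliser in `T x` of the line through `y`, `z` -/
abbrev AM (x y z : X) : Subgroup G := Δ.A x y ⊓ stabilizer G z

lemma AM_fix {x y z w : X} (hyz : y ≠ z) (hx : x ∉ Δ.line y z) {a : G} (ha : a ∈ Δ.AM x y z)
    (hw : w ∈ Δ.line y z) : a • w = w :=
  Δ.fixed_line ha.1.1 hyz hx ha.1.2 ha.2 hw

lemma AM_eq {x y z w w' : X} (hyz : y ≠ z) (hx : x ∉ Δ.line y z) (hw : w ∈ Δ.line y z)
    (hw' : w' ∈ Δ.line y z) (hww : w ≠ w') : Δ.AM x w w' = Δ.AM x y z := by
  have hl := Δ.line_eq hyz hw hw' hww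
  refine le_antisymm ?_ ?_
  · intro a ha
    have hx' : x ∉ Δ.line w w' := by rw [hl]; exact hx
    exact ⟨⟨ha.1.1, mem_stabilizer_iff.2 (Δ.AM_fix hww hx' ha (hl ▸ Δ.left_mem_line y z))⟩,
      mem_stabilizer_iff.2 (Δ.AM_fix hww hx' ha (hl ▸ Δ.right_mem_line y z))⟩
  · intro a ha
    exact ⟨⟨ha.1.1, mem_stabilizer_iff.2 (Δ.AM_fix hyz hx ha hw)⟩,
      mem_stabilizer_iff.2 (Δ.AM_fix hyz hx ha hw')⟩

lemma AM_lt {x y z : X} (hyz : y ≠ z) (hx : x ∉ Δ.line y z) :
    Nat.card ↥(Δ.AM x y z) < Nat.card ↥(Δ.A x y) := by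
  refine lt_of_le_of_ne (Nat.le_of_dvd Nat.card_pos (Subgroup.card_dvd_of_le inf_le_left)) fun e => ?_
  have he : Δ.AM x y z = Δ.A x y := Subgroup.eq_of_le_of_card_ge inf_le_left e.ge
  have hxy : x ≠ y := fun e' => hx (e' ▸ Δ.left_mem_line y z)
  have hzl : z ∈ Δ.line x y := Δ.mem_line.2 fun a ha => by
    rw [← he] at ha
    exact ha.2
  apply hx
  rw [Δ.line_eq hxy (Δ.right_mem_line x y) hzl hyz]
  exact Δ.left_mem_line x y

open scoped Classical in
lemma card_union_eq (x y z : X) (hyz : y ≠ z) (hx : x ∉ Δ.line y z) (D : Finset X)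
    (hD : D ⊆ Δ.line y z) (N : Subgroup G) (hN : ∀ d ∈ D, Δ.A x d ≤ N) (hM : Δ.AM x y z ≤ N) :
    D.card * (Nat.card ↥(Δ.A x y) - Nat.card ↥(Δ.AM x y z)) + Nat.card ↥(Δ.AM x y z) ≤
      Nat.card N ∧
    (D.card * (Nat.card ↥(Δ.A x y) - Nat.card ↥(Δ.AM x y z)) + Nat.card ↥(Δ.AM x y z) =
      Nat.card N → ∀ g ∈ N, g ∉ Δ.AM x y z → ∃ d ∈ D, g ∈ Δ.A x d) := by
  set F : X → Finset G := fun d =>
    Finset.univ.filter (fun g => g ∈ Δ.A x d ∧ g ∉ Δ.AM x y z) with hF
  have hxd : ∀ d ∈ D, x ≠ d := fun d hd e => hx (by rw [e]; exact hD hd)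
  have hsubA : ∀ d ∈ D, Δ.AM x y z ≤ Δ.A x d := fun d hd a ha =>
    ⟨ha.1.1, mem_stabilizer_iff.2 (Δ.AM_fix hyz hx ha (hD hd))⟩
  have cset : ∀ H : Subgroup G,
      (Finset.univ.filter fun g : G => g ∈ H).card = Nat.card H := fun H => by
    rw [Nat.card_eq_fintype_card, ← Fintype.card_subtype]
  have hFc : ∀ d ∈ D, (F d).card = Nat.card ↥(Δ.A x y) - Nat.card ↥(Δ.AM x y z) := by
    intro d hd
    rw [← Δ.card_A_const (hxd d hd) (show x ≠ y from fun e => hx (e ▸ Δ.left_mem_line y z)), ← cset, ← cset,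
      ← Finset.card_sdiff_of_subset (fun g hg => by
        simp only [Finset.mem_filter, Finset.mem_univ, true_and] at hg ⊢
        exact hsubA d hd hg)]
    congr 1
    ext g
    simp [hF]
  have hdisj : (D : Set X).PairwiseDisjoint F := by
    intro d hd d' hd' hne
    rw [Function.onFun, Finset.disjoint_left]
    intro g hg hg'
    simp only [hF, Finset.mem_filter, Finset.mem_univ, true_and] at hg hg'
    apply hg.2
    rw [← Δ.AM_eq hyz hx (hD hd) (hD hd') hne]
    exact ⟨hg.1, hg'.1.2⟩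
  have hd2 : Disjoint (D.biUnion F) (Finset.univ.filter fun g => g ∈ Δ.AM x y z) := by
    rw [Finset.disjoint_left]
    intro g hg hg'
    simp only [hF, Finset.mem_biUnion, Finset.mem_filter, Finset.mem_univ, true_and] at hg hg'
    obtain ⟨d, -, -, hn⟩ := hg
    exact hn hg'
  have hsub : D.biUnion F ∪ (Finset.univ.filter fun g => g ∈ Δ.AM x y z) ⊆
      Finset.univ.filter fun g => g ∈ N := by
    intro g hg
    simp only [hF, Finset.mem_union, Finset.mem_biUnion, Finset.mem_filter, Finset.mem_univ,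
      true_and] at hg ⊢
    rcases hg with ⟨d, hd, hg, -⟩ | hg
    · exact hN d hd hg
    · exact hM hg
  have hcard : (D.biUnion F ∪ (Finset.univ.filter fun g => g ∈ Δ.AM x y z)).card =
      D.card * (Nat.card ↥(Δ.A x y) - Nat.card ↥(Δ.AM x y z)) + Nat.card ↥(Δ.AM x y z) := by
    rw [Finset.card_union_of_disjoint hd2, Finset.card_biUnion hdisj, Finset.sum_congr rfl hFc,
      Finset.sum_const, smul_eq_mul, cset]
  refine ⟨?_, fun heq g hg hgM => ?_⟩
  · rw [← hcard, ← cset]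
    exact Finset.card_le_card hsub
  · have h := Finset.eq_of_subset_of_card_le hsub (by rw [hcard, cset, heq])
    have hg' : g ∈ D.biUnion F ∪ (Finset.univ.filter fun g => g ∈ Δ.AM x y z) := by
      rw [h]; simp [hg]
    simp only [hF, Finset.mem_union, Finset.mem_biUnion, Finset.mem_filter, Finset.mem_univ,
      true_and] at hg'
    rcases hg' with ⟨d, hd, hgd, -⟩ | hg'
    · exact ⟨d, hd, hgd⟩
    · exact absurd hg' hgM

open scoped Classical in
/-- the orbits of `T x` are lines without `x` -/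
lemma card_line_eq {x y : X} (hxy : x ≠ y) :
    ((Δ.line x y).card - 1) * Nat.card ↥(Δ.A x y) = Nat.card ↥(Δ.T x) := by
  obtain ⟨t, ht2, ht⟩ := Δ.exists_orbit_len
  obtain ⟨z, hz⟩ := Δ.exists_notMem_line hxy
  have hyz : y ≠ z := fun e => hz (e ▸ Δ.right_mem_line x y)
  have hx : x ∉ Δ.line y z := fun h => hz (by
    rw [Δ.line_comm hxy, Δ.line_eq hyz (Δ.left_mem_line y z) h (Ne.symm hxy)]
    exact Δ.right_mem_line y z)
  have hdvd : t ∣ ((Δ.line x y).erase x).card := by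
    refine dvd_card_of_orbits (Δ.T x) _ (fun u hu w hw => ?_) t (fun w hw => ?_)
    · simp only [Finset.mem_erase] at hw ⊢
      exact ⟨fun e => hw.1 (MulAction.injective u (e.trans (Δ.smul_self hu).symm)),
        Δ.smul_mem_centre_line' hu hw.2⟩
    · exact ht x w (Ne.symm (Finset.ne_of_mem_erase hw))
  rw [Finset.card_erase_of_mem (Δ.left_mem_line x y)] at hdvd
  obtain ⟨j, hj⟩ := hdvd
  have hl2 : 2 ≤ (Δ.line x y).card := by
    have := Finset.card_le_card (show ({x, y} : Finset X) ⊆ Δ.line x y by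
      intro w hw
      simp only [Finset.mem_insert, Finset.mem_singleton] at hw
      rcases hw with rfl | rfl
      · exact Δ.left_mem_line _ _
      · exact Δ.right_mem_line _ _)
    rwa [Finset.card_pair hxy] at this
  have hb := (Δ.card_union_eq x y z hyz hx (Δ.line y z) (Finset.Subset.refl _) (Δ.T x)
    (fun d _ => inf_le_left) (inf_le_left.trans inf_le_left)).1
  rw [Δ.card_line_const hyz hxy] at hb
  obtain ⟨v, hv⟩ : Nat.card ↥(Δ.AM x y z) ∣ Nat.card ↥(Δ.A x y) :=
    Subgroup.card_dvd_of_le inf_le_left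
  have hlt := Δ.AM_lt hyz hx
  have hT := ht x y hxy
  have hκ : 0 < Nat.card ↥(Δ.AM x y z) := Nat.card_pos
  rw [← hT, hv] at hb
  rw [hv] at hlt
  have hv2 : 2 ≤ v := by
    by_contra hc
    have := Nat.mul_le_mul_left (Nat.card ↥(Δ.AM x y z)) (show v ≤ 1 by omega)
    omega
  obtain ⟨v', rfl⟩ : ∃ v', v = v' + 2 := ⟨v - 2, by omega⟩
  set κ := Nat.card ↥(Δ.AM x y z)
  have hsub : κ * (v' + 2) - κ = κ * (v' + 1) := by
    rw [show κ * (v' + 2) = κ * (v' + 1) + κ by ring, Nat.add_sub_cancel]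
  rw [hsub, show (Δ.line x y).card = t * j + 1 by omega] at hb
  have hj1 : j = 1 := by
    by_contra hne
    have hj2 : 2 ≤ j := by
      rcases Nat.eq_zero_or_pos j with h | h
      · rw [h, mul_zero] at hj; omega
      · omega
    have := Nat.mul_le_mul_left (t * κ * (v' + 1)) hj2
    nlinarith [Nat.zero_le (t * κ * v'), Nat.zero_le (κ * (v' + 1))]
  rw [hj, hj1, mul_one, mul_comm, hT]

lemma exists_T_line {x y y' : X} (hxy : x ≠ y) (hy' : y' ∈ Δ.line x y) (hy'x : y' ≠ x) :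
    ∃ u ∈ Δ.T x, u • y = y' := by
  classical
  have hsub : (orbit (Δ.T x) y).toFinset ⊆ (Δ.line x y).erase x := by
    intro w hw
    rw [Set.mem_toFinset] at hw
    obtain ⟨u, rfl⟩ := hw
    rw [Finset.mem_erase]
    exact ⟨fun e => hxy (MulAction.injective u.1 ((Δ.smul_self u.2).trans e.symm)),
      Δ.smul_mem_centre_line u.2⟩
  have h1 := card_orbit_mul (Δ.T x) y
  have h2 := Δ.card_line_eq hxy
  have h3 : Nat.card (orbit (Δ.T x) y) = (Δ.line x y).card - 1 := by
    refine Nat.eq_of_mul_eq_mul_right (Nat.card_pos (α := ↥(Δ.A x y))) ?_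
    rw [h2]; exact h1
  have he := Finset.eq_of_subset_of_card_le hsub (by
    rw [Finset.card_erase_of_mem (Δ.left_mem_line x y), Set.toFinset_card, ← Nat.card_eq_fintype_card,
      h3])
  have : y' ∈ (orbit (Δ.T x) y).toFinset := by rw [he]; exact Finset.mem_erase.2 ⟨hy'x, hy'⟩
  rw [Set.mem_toFinset] at this
  obtain ⟨u, hu⟩ := this
  exact ⟨u.1, u.2, hu⟩

/-- the commutator with an element of `T w` fixing `x` -/
lemma comm_mem {x w : X} (hwx : w ≠ x) {u : G} (hu : u ∈ Δ.A w x) {τ : G} (hτ : τ ∈ Δ.T x) :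
    u * τ * u⁻¹ * τ⁻¹ ∈ Δ.A x w := by
  refine ⟨(Δ.T x).mul_mem (Δ.conj_mem hτ (mem_stabilizer_iff.1 hu.2)) ((Δ.T x).inv_mem hτ),
    mem_stabilizer_iff.2 ?_⟩
  have h1 : τ⁻¹ • w ∈ Δ.line x w := Δ.smul_mem_centre_line (inv_mem hτ)
  rw [Δ.line_comm (Ne.symm hwx)] at h1
  have h2 : u • τ⁻¹ • w = τ⁻¹ • w := Δ.fixed_centre_line hu.1 (mem_stabilizer_iff.1 hu.2) h1
  rw [mul_smul, mul_smul, mul_smul, inv_smul_eq_iff.2 h2.symm, smul_inv_smul, Δ.smul_self hu.1]

open scoped Classical in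
/-- every element of `T x` fixes a point on every line -/
theorem exists_fixed_on_line {x y z : X} (hyz : y ≠ z) (hx : x ∉ Δ.line y z) {g : G}
    (hg : g ∈ Δ.T x) : ∃ d ∈ Δ.line y z, g • d = d := by
  have hxy : x ≠ y := fun e => hx (e ▸ Δ.left_mem_line y z)
  have hxz : x ≠ z := fun e => hx (e ▸ Δ.right_mem_line y z)
  set κ := Nat.card ↥(Δ.AM x y z) with hκdef
  set s := Nat.card ↥(Δ.A x y) with hsdef
  obtain ⟨v, hv⟩ : κ ∣ s := Subgroup.card_dvd_of_le inf_le_left
  have hκs : κ < s := Δ.AM_lt hyz hx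
  have hκ0 : 0 < κ := Nat.card_pos
  have hv2 : 2 ≤ v := by
    by_contra hc
    have := Nat.mul_le_mul_left κ (show v ≤ 1 by omega)
    omega
  -- the product of the stabilisers of `y` and `z`
  set N : Subgroup G := Δ.A x y ⊔ Δ.A x z with hNdef
  have hNT : N ≤ Δ.T x := sup_le inf_le_left inf_le_left
  have hMN : Δ.AM x y z ≤ N := inf_le_left.trans le_sup_left
  have hnorm : ((Δ.A x z).subgroupOf (Δ.T x)).Normal := by
    refine ⟨fun b hb g => ?_⟩
    have h : g * b * g⁻¹ = b := by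
      apply Subtype.ext
      show g.1 * b.1 * g.1⁻¹ = b.1
      rw [Δ.T_comm x g.1 g.2 b.1 b.2, mul_inv_cancel_right]
    rwa [h]
  have hNcard : Nat.card N = s * v := by
    have h1 := Subgroup.relIndex_inf_mul_relIndex (⊥ : Subgroup G) (Δ.A x z) N
    have h2 : (Δ.A x z).relIndex N = (Δ.A x z).relIndex (Δ.A x y) := by
      rw [← Subgroup.relIndex_subgroupOf (H := Δ.A x z) hNT,
        ← Subgroup.relIndex_subgroupOf (H := Δ.A x z) (inf_le_left : Δ.A x y ≤ Δ.T x), hNdef,
        Subgroup.subgroupOf_sup inf_le_left inf_le_left]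
      exact Subgroup.relIndex_sup_right _ _
    have h3 : (Δ.A x z).relIndex (Δ.A x y) * κ = s := by
      rw [← Subgroup.inf_relIndex_right, hκdef, hsdef]
      have e : Δ.A x z ⊓ Δ.A x y = Δ.AM x y z := by
        ext a
        simp only [Subgroup.mem_inf]
        tauto
      rw [e, mul_comm, Subgroup.relIndex, ← Nat.card_congr
        (Subgroup.subgroupOfEquivOfLe (inf_le_left : Δ.AM x y z ≤ Δ.A x y)).toEquiv]
      exact Subgroup.card_mul_index _
    have h4 : Nat.card ↥(Δ.A x z) * (Δ.A x z).relIndex N = Nat.card N := by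
      rw [Subgroup.relIndex, ← Nat.card_congr
        (Subgroup.subgroupOfEquivOfLe (le_sup_right : Δ.A x z ≤ N)).toEquiv]
      exact Subgroup.card_mul_index _
    rw [← h4, h2, Δ.card_A_const hxz hxy]
    congr 1
    refine Nat.eq_of_mul_eq_mul_right hκ0 ?_
    rw [h3, hv, mul_comm]
  -- `N` is covered by the stabilisers of the points of an orbit
  set U : Subgroup G := Δ.A z x with hU
  set D : Finset X := insert z (orbit U y).toFinset with hD
  have hDl : D ⊆ Δ.line y z := by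
    intro d hd
    simp only [hD, Finset.mem_insert, Set.mem_toFinset] at hd
    rcases hd with rfl | ⟨u, rfl⟩
    · exact Δ.right_mem_line y d
    · rw [Δ.line_comm hyz]
      exact Δ.smul_mem_centre_line u.2.1
  have horb : Nat.card (orbit U y) = v := by
    have h1 := card_orbit_mul U y
    have h2 : Nat.card ↥(U ⊓ stabilizer G y) = κ := by
      show Δ.kap z x y = _
      rw [Δ.kap_symm hxz hxy (Ne.symm hyz), hκdef, kap, inf_right_comm]
    rw [h2, hU, Δ.card_A_const (Ne.symm hxz) hxy, ← hsdef, hv] at h1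
    exact Nat.eq_of_mul_eq_mul_right hκ0 (by rw [h1, mul_comm])
  have hDc : D.card = v + 1 := by
    rw [hD, Finset.card_insert_of_notMem, Set.toFinset_card, ← Nat.card_eq_fintype_card, horb]
    rw [Set.mem_toFinset]
    rintro ⟨u, hu⟩
    exact hyz (MulAction.injective u.1 (hu.trans (Δ.smul_self u.2.1).symm))
  have hDN : ∀ d ∈ D, Δ.A x d ≤ N := by
    intro d hd
    simp only [hD, Finset.mem_insert, Set.mem_toFinset] at hd
    rcases hd with rfl | ⟨u, rfl⟩
    · exact le_sup_right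
    · intro a ha
      have hu : u.1 • x = x := u.2.2
      have hb : u.1⁻¹ * a * u.1 ∈ Δ.A x y := by
        refine ⟨?_, mem_stabilizer_iff.2 ?_⟩
        · have := Δ.conj_mem (g := u.1⁻¹) ha.1 (by rw [inv_smul_eq_iff, hu])
          rwa [inv_inv] at this
        · rw [mul_smul, mul_smul, inv_smul_eq_iff]
          exact ha.2
      have hc := Δ.comm_mem (Ne.symm hxz) u.2 hb.1
      have e : a = (u.1 * (u.1⁻¹ * a * u.1) * u.1⁻¹ * (u.1⁻¹ * a * u.1)⁻¹) * (u.1⁻¹ * a * u.1) := by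
        group
      rw [e]
      exact mul_mem (le_sup_right (a := Δ.A x y) hc) (le_sup_left (b := Δ.A x z) hb)
  have hsub : s - κ = κ * (v - 1) := by rw [hv, Nat.mul_sub, mul_one]
  have hcover : ∀ e ∈ N, e ∉ Δ.AM x y z → ∃ d ∈ D, e ∈ Δ.A x d := by
    refine (Δ.card_union_eq x y z hyz hx D hDl N hDN hMN).2 ?_
    rw [← hκdef, ← hsdef, hNcard, hDc, hsub, hv]
    obtain ⟨v', rfl⟩ : ∃ v', v = v' + 1 := ⟨v - 1, by omega⟩
    rw [Nat.add_sub_cancel]
    ring
  -- all the stabilisers lie in `N`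
  have hall : ∀ w ∈ Δ.line y z, Δ.A x w ≤ N := by
    intro w hw
    by_contra hwN
    have hwx : w ≠ x := fun e => hx (e ▸ hw)
    have hwy : w ≠ y := fun e => hwN (e ▸ le_sup_left)
    -- an element of `T w` fixing `x` but not `y`
    obtain ⟨u, hu, huy⟩ : ∃ u ∈ Δ.A w x, u • y ≠ y := by
      by_contra hc
      push Not at hc
      have h2 : Nat.card ↥(Δ.A w x ⊓ stabilizer G y) = Nat.card ↥(Δ.A w x) := by
        rw [inf_eq_left.2 (show Δ.A w x ≤ stabilizer G y from fun a ha => hc a ha)]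
      have h3 : Nat.card ↥(Δ.A w x ⊓ stabilizer G y) = κ := by
        show Δ.kap w x y = _
        rw [Δ.kap_symm (Ne.symm hwx) hxy hwy, hκdef,
          ← Δ.AM_eq hyz hx hw (Δ.left_mem_line y z) hwy]
        rfl
      rw [h2, Δ.card_A_const hwx hxy, ← hsdef] at h3
      omega
    have huM : ∀ d ∈ Δ.line y z, u • d ∈ Δ.line y z := by
      intro d hd
      by_cases hdw : d = w
      · subst hdw; rwa [Δ.smul_self hu.1]
      · rw [← Δ.line_eq hyz hw hd (Ne.symm hdw)]
        exact Δ.smul_mem_centre_line hu.1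
    have hud : ∀ d ∈ Δ.line y z, d ≠ w → u • d ≠ d := fun d hd hdw e => huy
      (Δ.fixed_centre_line hu.1 e (by
        rw [Δ.line_eq hyz hw hd (Ne.symm hdw)]; exact Δ.left_mem_line y z))
    let Q := ↥(Δ.A x w)
    letI : CommGroup Q :=
      { (inferInstance : Group ↥(Δ.A x w)) with
        mul_comm := fun a b => Subtype.ext (Δ.T_comm x a.1 a.2.1 b.1 b.2.1) }
    let AMw : Subgroup Q := (Δ.AM x y z).subgroupOf (Δ.A x w)
    let c : N →* Q :=
      { toFun := fun a => ⟨u * a.1 * u⁻¹ * a.1⁻¹, Δ.comm_mem hwx hu (hNT a.2)⟩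
        map_one' := Subtype.ext (by simp)
        map_mul' := fun a b => Subtype.ext (by
          show u * (a.1 * b.1) * u⁻¹ * (a.1 * b.1)⁻¹ =
            (u * a.1 * u⁻¹ * a.1⁻¹) * (u * b.1 * u⁻¹ * b.1⁻¹)
          have h1 := Δ.T_comm x _ (Δ.comm_mem hwx hu (hNT b.2)).1 a.1⁻¹ (inv_mem (hNT a.2))
          calc u * (a.1 * b.1) * u⁻¹ * (a.1 * b.1)⁻¹
              = (u * a.1 * u⁻¹) * ((u * b.1 * u⁻¹ * b.1⁻¹) * a.1⁻¹) := by group
            _ = (u * a.1 * u⁻¹) * (a.1⁻¹ * (u * b.1 * u⁻¹ * b.1⁻¹)) := by rw [h1]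
            _ = _ := by group) }
    let q : N →* Q ⧸ AMw := (QuotientGroup.mk' AMw).comp c
    have hker : κ < Nat.card q.ker := by
      have h1 := Subgroup.card_mul_index q.ker
      rw [Subgroup.index_ker, hNcard] at h1
      have h2 : Nat.card q.range ≤ v := by
        refine (Nat.card_le_card_of_injective _ Subtype.val_injective).trans (le_of_eq ?_)
        rw [← Subgroup.index_eq_card]
        refine Nat.eq_of_mul_eq_mul_left hκ0 ?_
        have h5 := Subgroup.card_mul_index AMw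
        have h6 : Nat.card AMw = κ := by
          refine Nat.card_congr (Subgroup.subgroupOfEquivOfLe ?_).toEquiv
          intro a ha
          exact ⟨ha.1.1, mem_stabilizer_iff.2 (Δ.AM_fix hyz hx ha hw)⟩
        rw [h6] at h5
        rw [h5, ← hv, hsdef]
        exact Δ.card_A_const (Ne.symm hwx) hxy
      by_contra hc
      have h7 := Nat.mul_le_mul (not_lt.1 hc) h2
      rw [h1, hv] at h7
      have := Nat.mul_le_mul_left (κ * v) hv2
      nlinarith
    obtain ⟨e, he, heM⟩ : ∃ e ∈ q.ker, e.1 ∉ Δ.AM x y z := by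
      by_contra hc
      push Not at hc
      have := Nat.card_le_card_of_injective
        (fun e : q.ker => (⟨e.1.1, hc e.1 e.2⟩ : Δ.AM x y z))
        (fun a b h => Subtype.ext (Subtype.ext (congrArg Subtype.val h :)))
      omega
    obtain ⟨d, hd, hed⟩ := hcover e.1 e.2 heM
    have hdM := hDl hd
    have hdw : d ≠ w := fun h => hwN (h ▸ hDN d hd)
    have hce : u * e.1 * u⁻¹ * e.1⁻¹ ∈ Δ.AM x y z := by
      have h := (QuotientGroup.eq_one_iff (c e)).1 he
      exact Subgroup.mem_subgroupOf.1 h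
    -- the conjugate fixes `d` and `u • d`
    have hcd : (u * e.1 * u⁻¹) • d = d := by
      rw [show u * e.1 * u⁻¹ = (u * e.1 * u⁻¹ * e.1⁻¹) * e.1 by group, mul_smul,
        mem_stabilizer_iff.1 hed.2, Δ.AM_fix hyz hx hce hdM]
    have hcud : (u * e.1 * u⁻¹) • (u • d) = u • d := by
      rw [mul_smul, mul_smul, inv_smul_smul, mem_stabilizer_iff.1 hed.2]
    have hne : d ≠ u • d := fun h => hud d hdM hdw h.symm
    have hue : u * e.1 * u⁻¹ ∈ Δ.AM x y z := by
      rw [← Δ.AM_eq hyz hx hdM (huM d hdM) hne]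
      exact ⟨⟨Δ.conj_mem hed.1 hu.2, hcd⟩, hcud⟩
    apply heM
    have hfix : ∀ r ∈ Δ.line y z, e.1 • r = r := fun r hr => by
      have h := Δ.AM_fix hyz hx hue (huM r hr)
      rwa [mul_smul, mul_smul, inv_smul_smul, MulAction.injective u |>.eq_iff] at h
    exact ⟨⟨hed.1, hfix y (Δ.left_mem_line y z)⟩, hfix z (Δ.right_mem_line y z)⟩
  -- hence `N` is everything
  have hb := (Δ.card_union_eq x y z hyz hx (Δ.line y z) (Finset.Subset.refl _) N hall hMN).1
  rw [← hκdef, ← hsdef, hsub, hNcard, hv] at hb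
  obtain ⟨v', rfl⟩ : ∃ v', v = v' + 1 := ⟨v - 1, by omega⟩
  rw [Nat.add_sub_cancel] at hb
  have hle : (Δ.line y z).card ≤ v' + 2 := by
    by_contra hc
    have := Nat.mul_le_mul_right (κ * v') (show v' + 3 ≤ (Δ.line y z).card by omega)
    have : 0 < κ * v' := Nat.mul_pos hκ0 (by omega)
    nlinarith
  have hTN : Δ.T x = N := by
    refine (Subgroup.eq_of_le_of_card_ge hNT ?_).symm
    rw [← Δ.card_line_eq hxy, hNcard, ← hsdef, ← Δ.card_line_const hyz hxy, mul_comm]
    exact Nat.mul_le_mul_left s (by omega)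
  by_cases hgM : g ∈ Δ.AM x y z
  · exact ⟨y, Δ.left_mem_line y z, hgM.1.2⟩
  obtain ⟨d, hd, hgd⟩ := hcover g (hTN ▸ hg) hgM
  exact ⟨d, hDl hd, hgd.2⟩

end Setting

end Cfsg.Lib.ONanAbelian
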